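import Cfsg.Agent.Lib.CosetEnum.Fi23Base.Data
import Cfsg.Agent.Lib.CosetEnum.Fi23Fi22.Data

/-! Generated certificate. -/

set_option autoImplicit false
set_option maxRecDepth 20000

namespace Cfsg.Lib.CosetEnum.Fi23Base

theorem orbit4_ok : orbitOK Fi23Fi22.tabP orb4 pos4 10 31671 32 words4 32 0 = true := by
  decide +kernel

theorem nest4_ok : nestOK Fi23Fi22.tabP 10 level4 words5 = true := by
  decide +kernel

end Cfsg.Lib.CosetEnum.Fi23Base
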