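import Cfsg.Agent.Lib.CosetEnum.Fi23Base.Data
import Cfsg.Agent.Lib.CosetEnum.Fi23Fi22.Data

/-! Generated certificate. -/

set_option autoImplicit false
set_option maxRecDepth 20000

namespace Cfsg.Lib.CosetEnum.Fi23Base

theorem killPow24 : permOK Fi23Fi22.tabP 10 31671 [(List.replicate 17 killWord).flatten] 500 12000 = true := by
  decide +kernel

theorem killPow25 : permOK Fi23Fi22.tabP 10 31671 [(List.replicate 17 killWord).flatten] 500 12500 = true := by
  decide +kernel

theorem killPow26 : permOK Fi23Fi22.tabP 10 31671 [(List.replicate 17 killWord).flatten] 500 13000 = true := by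
  decide +kernel

theorem killPow27 : permOK Fi23Fi22.tabP 10 31671 [(List.replicate 17 killWord).flatten] 500 13500 = true := by
  decide +kernel

theorem killPow28 : permOK Fi23Fi22.tabP 10 31671 [(List.replicate 17 killWord).flatten] 500 14000 = true := by
  decide +kernel

theorem killPow29 : permOK Fi23Fi22.tabP 10 31671 [(List.replicate 17 killWord).flatten] 500 14500 = true := by
  decide +kernel

theorem killPow30 : permOK Fi23Fi22.tabP 10 31671 [(List.replicate 17 killWord).flatten] 500 15000 = true := by
  decide +kernel

theorem killPow31 : permOK Fi23Fi22.tabP 10 31671 [(List.replicate 17 killWord).flatten] 500 15500 = true := by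
  decide +kernel

end Cfsg.Lib.CosetEnum.Fi23Base
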