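import Cfsg.Agent.Lib.CosetEnum.Fi23Base.Level0
import Cfsg.Agent.Lib.CosetEnum.Fi23Base.Level1
import Cfsg.Agent.Lib.CosetEnum.Fi23Base.Level2
import Cfsg.Agent.Lib.CosetEnum.Fi23Base.Level3
import Cfsg.Agent.Lib.CosetEnum.Fi23Base.Level4
import Cfsg.Agent.Lib.CosetEnum.Fi23Base.Level5
import Cfsg.Agent.Lib.CosetEnum.Fi23Base.Pow0
import Cfsg.Agent.Lib.CosetEnum.Fi23Base.Pow1
import Cfsg.Agent.Lib.CosetEnum.Fi23Base.Pow2
import Cfsg.Agent.Lib.CosetEnum.Fi23Base.Pow3
import Cfsg.Agent.Lib.CosetEnum.Fi23Base.Pow4
import Cfsg.Agent.Lib.CosetEnum.Fi23Base.Pow5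
import Cfsg.Agent.Lib.CosetEnum.Fi23Base.Pow6
import Cfsg.Agent.Lib.CosetEnum.Fi23Base.Pow7

/-! Generated certificate. -/

set_option autoImplicit false
set_option maxRecDepth 20000

namespace Cfsg.Lib.CosetEnum.Fi23Base

theorem killWord_pow : permOK Fi23Fi22.tabP 10 31671 [(List.replicate 17 killWord).flatten] 31671 0 = true :=
  (permOK_append (a := 16000) (b := 15671) (permOK_append (a := 8000) (b := 8000) (permOK_append (a := 4000) (b := 4000) (permOK_append (a := 2000) (b := 2000) (permOK_append (a := 1000) (b := 1000) (permOK_append (a := 500) (b := 500) killPow0 killPow1) (permOK_append (a := 500) (b := 500) killPow2 killPow3)) (permOK_append (a := 1000) (b := 1000) (permOK_append (a := 500) (b := 500) killPow4 killPow5) (permOK_append (a := 500) (b := 500) killPow6 killPow7))) (permOK_append (a := 2000) (b := 2000) (permOK_append (a := 1000) (b := 1000) (permOK_append (a := 500) (b := 500) killPow8 killPow9) (permOK_append (a := 500) (b := 500) killPow10 killPow11)) (permOK_append (a := 1000) (b := 1000) (permOK_append (a := 500) (b := 500) killPow12 killPow13) (permOK_append (a := 500) (b :=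 500) killPow14 killPow15)))) (permOK_append (a := 4000) (b := 4000) (permOK_append (a := 2000) (b := 2000) (permOK_append (a := 1000) (b := 1000) (permOK_append (a := 500) (b := 500) killPow16 killPow17) (permOK_append (a := 500) (b := 500) killPow18 killPow19)) (permOK_append (a := 1000) (b := 1000) (permOK_append (a := 500) (b := 500) killPow20 killPow21) (permOK_append (a := 500) (b := 500) killPow22 killPow23))) (permOK_append (a := 2000) (b := 2000) (permOK_append (a := 1000) (b := 1000) (permOK_append (a := 500) (b := 500) killPow24 killPow25) (permOK_append (a := 500) (b := 500) killPow26 killPow27)) (permOK_append (a := 1000) (b := 1000) (permOK_append (a := 500) (b := 500) killPow28 killPow29) (permOK_append (a := 500) (b := 500) killPow30 killPow31))))) (permOK_append (a := 8000) (b := 7671) (permOK_append (a := 4000) (b := 4000) (permOK_append (a := 2000) (b := 2000) (permOK_append (a := 1000) (b := 1000) (permOK_append (a := 500) (b := 500) killPow32 killPow33) (permOK_append (a := 500) (b := 500) killPow34 killPow35)) (permOK_append (a := 1000) (b := 1000) (permOK_append (a := 500) (b :=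 500) killPow36 killPow37) (permOK_append (a := 500) (b := 500) killPow38 killPow39))) (permOK_append (a := 2000) (b := 2000) (permOK_append (a := 1000) (b := 1000) (permOK_append (a := 500) (b := 500) killPow40 killPow41) (permOK_append (a := 500) (b := 500) killPow42 killPow43)) (permOK_append (a := 1000) (b := 1000) (permOK_append (a := 500) (b := 500) killPow44 killPow45) (permOK_append (a := 500) (b := 500) killPow46 killPow47)))) (permOK_append (a := 4000) (b := 3671) (permOK_append (a := 2000) (b := 2000) (permOK_append (a := 1000) (b := 1000) (permOK_append (a := 500) (b := 500) killPow48 killPow49) (permOK_append (a := 500) (b := 500) killPow50 killPow51)) (permOK_append (a := 1000) (b := 1000) (permOK_append (a := 500) (b := 500) killPow52 killPow53) (permOK_append (a := 500) (b := 500) killPow54 killPow55))) (permOK_append (a := 2000) (b := 1671) (permOK_append (a := 1000) (b := 1000) (permOK_append (a := 500) (b := 500) killPow56 killPow57) (permOK_append (a := 500) (b := 500) killPow58 killPow59)) (permOK_append (a := 1000) (b := 671) (permOK_append (a := 500) (b := 500) killPow60 killPow61)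 (permOK_append (a := 500) (b := 171) killPow62 killPow63))))))

end Cfsg.Lib.CosetEnum.Fi23Base
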