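import Cfsg.Agent.Lib.CosetEnum.Defs

/-! Generated table data. -/

set_option autoImplicit false
set_option maxRecDepth 20000

namespace Cfsg.Lib.CosetEnum.Fi23Base

/-- Table data. -/
def orb3_0_0 : Tab :=
  (.leaf 0x2d450000dc000010001f440000d8000020001f430000d4000030001f410000d0000030001f400000cc000050001f3f0000c8000060001f470000c80000500025780000c400002000197e0000c000003000197d0000b800005000197b0000b400005000197a0000b00000600019890000b0000030001e9a0000ac00003000148c0000a400005000148b0000a000005000148a00009c0000600014880000980000600014a600009800004000189200009000005000102700008c00005000102600008800006000102400008000006000108a00008000004000108900008000002000136500007c000050001364000078000060000c5200007000006000148d000070000040000c5100006c000060000cf700006c000030000eff00006400006000189300006400004000092700005c00006000102800005c0000300009d9000058000050000b520000500000600013660000500000300006b300004c000060000c5500004800005000075100004800001000085c000040000060000f0200003c0000500009290000380000500009d8000038000020000a67000034000060000b54000030000050000cf6000030000020000c5600002c000030000dba000028000050000f030000240000300010290000200000400011a300001c00003000136700001800004000148e00001800000000163800001000004000189400001000001000198b00000c00004000198a00000c0000200014a700000800003000108b000004000050000cf90000000000600009dc00000000000)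

/-- Table data. -/
def orb3_0 : Tab :=
  orb3_0_0

end Cfsg.Lib.CosetEnum.Fi23Base
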