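import Cfsg.Agent.Lib.CosetEnum.Defs

/-! Generated table data. -/

set_option autoImplicit false
set_option maxRecDepth 20000

namespace Cfsg.Lib.CosetEnum.Fi23Base

/-- Table data. -/
def orb4_0_0 : Tab :=
  (.leaf 0x1f470000780000500019890000740000300014a600006c00004000108a00006400004000108900006400002000148d00005c000040000cf70000580000300018930000540000400010280000500000300009d900004c000050001366000048000030000c55000040000050000751000040000010000f020000380000500009290000340000500009d8000034000020000b5400002c000050000cf600002c000020000c56000028000030000dba000024000050000f0300002000003000102900001c0000400011a300001800003000136700001400004000148e00001400000000163800000c00004000189400000c00001000198b00000800004000198a0000080000200014a700000400003000108b000000000050000cf900000000000)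

/-- Table data. -/
def orb4_0 : Tab :=
  orb4_0_0

end Cfsg.Lib.CosetEnum.Fi23Base
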