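import Cfsg.Agent.Lib.CosetEnum.Fi23Base.Orb0_Data0
import Cfsg.Agent.Lib.CosetEnum.Fi23Base.Pos0_Data0
import Cfsg.Agent.Lib.CosetEnum.Fi23Base.Orb1_Data0
import Cfsg.Agent.Lib.CosetEnum.Fi23Base.Pos1_Data0
import Cfsg.Agent.Lib.CosetEnum.Fi23Base.Orb2_Data0
import Cfsg.Agent.Lib.CosetEnum.Fi23Base.Pos2_Data0
import Cfsg.Agent.Lib.CosetEnum.Fi23Base.Orb3_Data0
import Cfsg.Agent.Lib.CosetEnum.Fi23Base.Pos3_Data0
import Cfsg.Agent.Lib.CosetEnum.Fi23Base.Orb4_Data0
import Cfsg.Agent.Lib.CosetEnum.Fi23Base.Pos4_Data0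
import Cfsg.Agent.Lib.CosetEnum.Fi23Base.Orb5_Data0
import Cfsg.Agent.Lib.CosetEnum.Fi23Base.Pos5_Data0

/-! Generated certificate. -/

set_option autoImplicit false
set_option maxRecDepth 20000

namespace Cfsg.Lib.CosetEnum.Fi23Base

/-- Table. -/
def orb0 : Tab :=
  orb0_0

/-- Table. -/
def pos0 : Tab :=
  pos0_0

/-- Generators of a level. -/
def words0 : List (List Nat) :=
  [[0],
    [1],
    [2],
    [3],
    [4],
    [5],
    [6],
    [7],
    [8],
    [9]]

/-- A level of the base. -/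
def level0 : BaseLevel :=
  ⟨orb0, pos0, 31671, words0⟩

/-- Table. -/
def orb1 : Tab :=
  orb1_0

/-- Table. -/
def pos1 : Tab :=
  pos1_0

/-- Generators of a level. -/
def words1 : List (List Nat) :=
  [[0],
    [1],
    [2],
    [3],
    [4],
    [5],
    [6],
    [8],
    [9]]

/-- A level of the base. -/
def level1 : BaseLevel :=
  ⟨orb1, pos1, 28160, words1⟩

/-- Table. -/
def orb2 : Tab :=
  orb2_0

/-- Table. -/
def pos2 : Tab :=
  pos2_0

/-- Generators of a level. -/
def words2 : List (List Nat) :=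
  [[0],
    [1],
    [2],
    [3],
    [4],
    [5],
    [8],
    [9]]

/-- A level of the base. -/
def level2 : BaseLevel :=
  ⟨orb2, pos2, 3159, words2⟩

/-- Table. -/
def orb3 : Tab :=
  orb3_0

/-- Table. -/
def pos3 : Tab :=
  pos3_0

/-- Generators of a level. -/
def words3 : List (List Nat) :=
  [[0],
    [1],
    [2],
    [3],
    [4],
    [8],
    [9]]

/-- A level of the base. -/
def level3 : BaseLevel :=
  ⟨orb3, pos3, 63, words3⟩

/-- Table. -/
def orb4 : Tab :=
  orb4_0

/-- Table. -/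
def pos4 : Tab :=
  pos4_0

/-- Generators of a level. -/
def words4 : List (List Nat) :=
  [[0],
    [1],
    [2],
    [3],
    [4],
    [8]]

/-- A level of the base. -/
def level4 : BaseLevel :=
  ⟨orb4, pos4, 32, words4⟩

/-- Table. -/
def orb5 : Tab :=
  orb5_0

/-- Table. -/
def pos5 : Tab :=
  pos5_0

/-- Generators of a level. -/
def words5 : List (List Nat) :=
  [[0],
    [1],
    [2],
    [3],
    [4]]

/-- A level of the base. -/
def level5 : BaseLevel :=
  ⟨orb5, pos5, 720, words5⟩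

/-- The element killed in the simplicity proof. -/
def killWord : List Nat :=
  [2, 3, 0, 9, 7, 4, 5, 9, 8, 6, 1]

end Cfsg.Lib.CosetEnum.Fi23Base
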